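import Cfsg.Agent.H666.Frob.Fixed
import Cfsg.Agent.H676.Frob.NotTrace

/-!
# The Frobenius lemma, T23, assembly (helper666, helper676)
-/

set_option autoImplicit false

namespace Cfsg.Agent.H666.Frob

open Cfsg.Agent.H760.Frob

/-- **T23** : a vector fixed by `x` and by the `p`-regular elements of `C(x)`, not in the range of the trace map -/
theorem exists_fixed {K : Type*} [Field K] [IsAlgClosed K] {p : ℕ} [Fact p.Prime] [CharP K p]
    {G : Type*} [Group G] [Fintype G] {V : Type*} [AddCommGroup V] [Module K V] [FiniteDimensional K V]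
    (ρ : Representation K G V) (hρ : ρ.IsIrreducible) (haug : Aug ρ) {x : G} (hx : orderOf x = p)
    (hG : ¬ p ^ 2 ∣ Nat.card G) :
    ∃ v : V, ρ x v = v ∧ (∀ c : G, Commute c x → ¬ p ∣ orderOf c → ρ c v = v) ∧
      v ∉ LinearMap.range (trP p ρ x) := by
  obtain ⟨v, h1, h2⟩ := Cfsg.Agent.H676.Frob.exists_fixed_notMem ρ hρ haug hx hG
  exact exists_fixed_of ρ haug hx hG h1 h2

end Cfsg.Agent.H666.Frob
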