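import Cfsg.Agent.H760.Frob.Defs
import Mathlib.GroupTheory.Transfer
import Mathlib.GroupTheory.Perm.Cycle.Type
import Mathlib.RepresentationTheory.Irreducible

/-!
# The Frobenius lemma, T23 (helper666)

`x` of order `p` generating a Sylow `p`-subgroup.  If `v` is fixed by `x` and is not in the range of the trace map of
`⟨x⟩` then the average of `v` over the `p`-regular elements of `C(x)` is a vector with the same properties, fixed by the
`p`-regular elements of `C(x)`.
-/

set_option autoImplicit false

open Subgroup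

namespace Cfsg.Agent.H666.Frob

open Cfsg.Agent.H760.Frob

variable {p : ℕ} [hp : Fact p.Prime] {G : Type*} [Group G]

/-- the powers of `x` commuting with `g` -/
theorem commute_of_pow {x g : G} (hx : orderOf x = p) {i j : ℕ} (hi : i < p) (hj : j < p) (hij : i ≠ j)
    (h : x ^ i * g * x⁻¹ ^ i = x ^ j * g * x⁻¹ ^ j) : Commute g x := by
  -- wlog i < j
  have key : ∀ i j : ℕ, i < j → j < p → x ^ i * g * x⁻¹ ^ i = x ^ j * g * x⁻¹ ^ j → Commute g x := by
    intro i j hij hj h
    obtain ⟨k, rfl⟩ := Nat.exists_eq_add_of_lt hij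
    have h1 : Commute g (x ^ (k + 1)) := by
      have h2 : x ^ i * g * x⁻¹ ^ i = x ^ i * (x ^ (k + 1) * g * x⁻¹ ^ (k + 1)) * x⁻¹ ^ i := by
        rw [h, show i + k + 1 = i + (k + 1) by ring, pow_add x i (k + 1), show i + (k + 1) = (k + 1) + i by ring,
          pow_add x⁻¹ (k + 1) i]
        simp only [mul_assoc]
      have h3 : g = x ^ (k + 1) * g * x⁻¹ ^ (k + 1) := mul_left_cancel (mul_right_cancel h2)
      have h4 : g * x ^ (k + 1) = x ^ (k + 1) * g := by
        conv_lhs => rw [h3]
        rw [inv_pow, inv_mul_cancel_right]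
      exact h4
    have hco : Nat.Coprime (k + 1) (orderOf x) := by
      rw [hx]
      exact Nat.Coprime.symm ((Nat.Prime.coprime_iff_not_dvd hp.out).2
        (Nat.not_dvd_of_pos_of_lt (Nat.succ_pos k) (by omega)))
    obtain ⟨m, hm⟩ := exists_pow_eq_self_of_coprime hco
    rw [← hm]
    exact h1.pow_right m
  rcases lt_or_gt_of_ne hij with h1 | h1
  · exact key i j h1 hj h
  · exact key j i h1 hi h.symm

variable [Finite G]

/-- the `p`-regular elements commuting with `x` are closed under multiplication -/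
theorem exists_V0 {x : G} (hx : orderOf x = p) (hG : ¬ p ^ 2 ∣ Nat.card G) :
    ∃ V0 : Subgroup G, (∀ c : G, c ∈ V0 ↔ Commute c x ∧ ¬ p ∣ orderOf c) ∧ ¬ p ∣ Nat.card V0 := by
  classical
  set C : Subgroup G := centralizer ({x} : Set G) with hC
  have hxC : x ∈ C := by rw [hC, mem_centralizer_singleton_iff]
  let x' : C := ⟨x, hxC⟩
  have hx' : orderOf x' = p := by rw [← hx]; exact (orderOf_mk x hxC)
  have hcardC : ¬ p ^ 2 ∣ Nat.card C := fun h => hG (h.trans (Subgroup.card_subgroup_dvd_card C))
  have hpC : p ∣ Nat.card C := by rw [← hx']; exact orderOf_dvd_natCard x'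
  let P : Sylow p C := Sylow.ofCard (zpowers x') (by
    rw [Nat.card_zpowers, hx']
    have : (Nat.card C).factorization p = 1 := by
      have h1 : 1 ≤ (Nat.card C).factorization p :=
        (Nat.Prime.dvd_iff_one_le_factorization hp.out Nat.card_pos.ne').1 hpC
      have h2 : ¬ 2 ≤ (Nat.card C).factorization p := fun h =>
        hcardC ((Nat.Prime.pow_dvd_iff_le_factorization hp.out Nat.card_pos.ne').2 h)
      omega
    rw [this, pow_one])
  have hPc : ∀ c : C, ∀ y ∈ (P : Subgroup C), c * y = y * c := by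
    intro c y hy
    obtain ⟨n, rfl⟩ := mem_zpowers_iff.1 (show y ∈ zpowers x' from hy)
    have hc : Commute c x' := by
      have h1 := mem_centralizer_singleton_iff.1 (show (c : G) ∈ centralizer ({x} : Set G) from c.2)
      exact Subtype.ext h1
    exact (hc.zpow_right n).eq
  have hPn : normalizer ((P : Subgroup C) : Set C) ≤ centralizer ((P : Subgroup C) : Set C) := by
    intro c _
    rw [mem_centralizer_iff]
    exact fun y hy => (hPc c y hy).symm
  let τ := MonoidHom.transferSylow P hPn
  have hnd : ¬ p ∣ Nat.card τ.ker := MonoidHom.not_dvd_card_ker_transferSylow P hPn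
  refine ⟨τ.ker.map C.subtype, fun c => ⟨?_, ?_⟩, ?_⟩
  · rintro ⟨d, hd, rfl⟩
    have h1 := mem_centralizer_singleton_iff.1 (show (d : G) ∈ centralizer ({x} : Set G) from d.2)
    refine ⟨h1, fun h2 => hnd ?_⟩
    have h3 : orderOf ((⟨d, hd⟩ : τ.ker)) = orderOf (C.subtype d) := by
      rw [Subgroup.orderOf_mk]
      exact (orderOf_injective C.subtype C.subtype_injective d).symm
    rw [← h3] at h2
    exact h2.trans (orderOf_dvd_natCard _)
  · rintro ⟨h1, h2⟩
    have hcC : c ∈ C := by rw [hC, mem_centralizer_singleton_iff]; exact h1.eq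
    refine ⟨⟨c, hcC⟩, ?_, rfl⟩
    show (⟨c, hcC⟩ : C) ∈ τ.ker
    rw [MonoidHom.mem_ker]
    have h3 : orderOf (τ ⟨c, hcC⟩) ∣ orderOf c := by
      rw [← Subgroup.orderOf_mk c hcC]
      exact orderOf_map_dvd τ _
    obtain ⟨k, hk⟩ := IsPGroup.iff_orderOf.1 P.2 (τ ⟨c, hcC⟩)
    rw [hk] at h3
    rcases Nat.eq_zero_or_pos k with h0 | h0
    · rw [h0, pow_zero] at hk
      exact orderOf_eq_one_iff.1 hk
    · exact absurd ((dvd_pow_self p h0.ne').trans h3) h2
  · rwa [Nat.card_congr (Equiv.refl _), Subgroup.card_map_of_injective C.subtype_injective]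

omit [Finite G] in
/-- the orbits of conjugation by `x` on a finite set of elements not commuting with `x` -/
theorem sum_mem_of_orbits {x : G} (hx : orderOf x = p) {K V : Type*} [Field K] [AddCommGroup V] [Module K V]
    (R : Submodule K V) (f : G → V) (hf : ∀ g, ∑ i ∈ Finset.range p, f (x ^ i * g * x⁻¹ ^ i) ∈ R) (n : ℕ) :
    ∀ T : Finset G, T.card = n → (∀ g ∈ T, x * g * x⁻¹ ∈ T) → (∀ g ∈ T, ¬ Commute g x) →
      ∑ g ∈ T, f g ∈ R ∧ p ∣ T.card := by
  classical
  induction n using Nat.strong_induction_on with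
  | _ n ih =>
    intro T hTn hT hnc
    rcases T.eq_empty_or_nonempty with rfl | ⟨g, hg⟩
    · simp
    · have hpow : ∀ i : ℕ, ∀ h ∈ T, x ^ i * h * x⁻¹ ^ i ∈ T := by
        intro i
        induction i with
        | zero => intro h hh; simpa using hh
        | succ i ihi =>
          intro h hh
          have := hT _ (ihi h hh)
          rw [show x ^ (i + 1) * h * x⁻¹ ^ (i + 1) = x * (x ^ i * h * x⁻¹ ^ i) * x⁻¹ by
            rw [pow_succ' x i, pow_succ x⁻¹ i]; simp only [mul_assoc]]
          exact this
      let O : Finset G := (Finset.range p).image (fun i => x ^ i * g * x⁻¹ ^ i)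
      have hinj : Set.InjOn (fun i : ℕ => x ^ i * g * x⁻¹ ^ i) (Finset.range p : Finset ℕ) := by
        intro i hi j hj hij
        by_contra hne
        exact hnc g hg (commute_of_pow hx (Finset.mem_range.1 hi) (Finset.mem_range.1 hj) hne hij)
      have hOT : O ⊆ T := by
        intro h hh
        obtain ⟨i, _, rfl⟩ := Finset.mem_image.1 hh
        exact hpow i g hg
      have hOc : O.card = p := by rw [Finset.card_image_of_injOn hinj, Finset.card_range]
      have hOx : ∀ h, x * h * x⁻¹ ∈ O → h ∈ O := by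
        intro h hh
        obtain ⟨i, hi, hi'⟩ := Finset.mem_image.1 hh
        have hxp : x ^ p = 1 := by rw [← hx]; exact pow_orderOf_eq_one x
        refine Finset.mem_image.2 ?_
        rcases Nat.eq_zero_or_pos i with h0 | h0
        · refine ⟨p - 1, Finset.mem_range.2 (Nat.sub_lt hp.out.pos one_pos), ?_⟩
          have h1 : h = x⁻¹ * g * x := by
            rw [h0] at hi'
            simp only [pow_zero, one_mul, mul_one] at hi'
            rw [hi']; group
          have h2 : x ^ (p - 1) = x⁻¹ := by
            rw [eq_inv_iff_mul_eq_one, ← pow_succ, Nat.sub_add_cancel hp.out.one_le, hxp]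
          show x ^ (p - 1) * g * x⁻¹ ^ (p - 1) = h
          rw [inv_pow, h2, inv_inv, h1]
        · refine ⟨i - 1, Finset.mem_range.2 (lt_of_le_of_lt (Nat.sub_le _ _) (Finset.mem_range.1 hi)), ?_⟩
          show x ^ (i - 1) * g * x⁻¹ ^ (i - 1) = h
          obtain ⟨k, rfl⟩ := Nat.exists_eq_succ_of_ne_zero h0.ne'
          have h3 : x ^ (k + 1) * g * x⁻¹ ^ (k + 1) = x * h * x⁻¹ := hi'
          rw [pow_succ' x k, pow_succ x⁻¹ k] at h3
          have h4 : x * (x ^ k * g * x⁻¹ ^ k) * x⁻¹ = x * h * x⁻¹ := by
            rw [← h3]; simp only [mul_assoc]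
          simpa using mul_left_cancel (mul_right_cancel h4)
      have hlt : (T \ O).card < n := by
        rw [Finset.card_sdiff_of_subset hOT, hOc, hTn]
        exact Nat.sub_lt (by rw [← hTn]; exact Finset.card_pos.2 ⟨g, hg⟩) hp.out.pos
      obtain ⟨h1, h2⟩ := ih _ hlt (T \ O) rfl
        (fun h hh => Finset.mem_sdiff.2 ⟨hT h (Finset.mem_sdiff.1 hh).1, fun h' => (Finset.mem_sdiff.1 hh).2 (hOx h h')⟩)
        (fun h hh => hnc h (Finset.mem_sdiff.1 hh).1)
      refine ⟨?_, ?_⟩
      · rw [← Finset.sum_sdiff hOT]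
        refine R.add_mem h1 ?_
        show ∑ h ∈ (Finset.range p).image (fun i => x ^ i * g * x⁻¹ ^ i), f h ∈ R
        rw [Finset.sum_image hinj]
        exact hf g
      · have h3 := Finset.card_sdiff_add_card_eq_card hOT
        rw [← h3, hOc]
        exact dvd_add h2 (dvd_refl p)

/-- **T23, second half** : averaging over the `p`-regular elements of `C(x)` -/
theorem exists_fixed_of {K : Type*} [Field K] [CharP K p] [Fintype G] {V : Type*} [AddCommGroup V] [Module K V]
    (ρ : Representation K G V) (haug : Aug ρ) {x : G} (hx : orderOf x = p)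
    (hG : ¬ p ^ 2 ∣ Nat.card G) {v : V} (hv : ρ x v = v) (hn : v ∉ LinearMap.range (trP p ρ x)) :
    ∃ v : V, ρ x v = v ∧ (∀ c : G, Commute c x → ¬ p ∣ orderOf c → ρ c v = v) ∧
      v ∉ LinearMap.range (trP p ρ x) := by
  classical
  obtain ⟨V0, hV0, hV0p⟩ := exists_V0 hx hG
  set R := LinearMap.range (trP p ρ x) with hR
  -- the sum over all `p`-regular elements
  have h1 := haug (fun g => if p ∣ orderOf g then 0 else 1) (fun g h => by
    have : orderOf (h * g * h⁻¹) = orderOf g := by
      have := orderOf_injective (MulAut.conj h).toMonoidHom (MulAut.conj h).injective g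
      simpa using this
    simp only [this])
  have h2 : ∑ g ∈ Finset.univ.filter (fun g : G => ¬ p ∣ orderOf g), ρ g v =
      ((Finset.univ.filter (fun g : G => ¬ p ∣ orderOf g)).card : K) • v := by
    have h3 := congrArg (fun f : Module.End K V => f v) h1
    simp only [LinearMap.sum_apply, LinearMap.smul_apply, Module.End.one_apply] at h3
    rw [Finset.sum_filter]
    rw [Finset.card_filter]
    push_cast
    have e1 : ∀ g : G, (if ¬ p ∣ orderOf g then ρ g v else 0) = (if p ∣ orderOf g then (0 : K) else 1) • ρ g v := by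
      intro g; by_cases h : p ∣ orderOf g <;> simp [h]
    have e2 : ∀ g : G, (if ¬ p ∣ orderOf g then (1 : K) else 0) = (if p ∣ orderOf g then (0 : K) else 1) := by
      intro g; by_cases h : p ∣ orderOf g <;> simp [h]
    simp only [e1, e2]
    exact h3
  have hpowv : ∀ i : ℕ, ρ (x⁻¹ ^ i) v = v := by
    have h0 : ρ x⁻¹ v = v := by
      conv_lhs => rw [← hv]
      rw [← Module.End.mul_apply, ← map_mul, inv_mul_cancel, map_one, Module.End.one_apply]
    intro i
    induction i with
    | zero => rw [pow_zero, map_one, Module.End.one_apply]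
    | succ i ih => rw [pow_succ, map_mul, Module.End.mul_apply, h0, ih]
  obtain ⟨h3, h4⟩ := sum_mem_of_orbits hx R (fun g => ρ g v) (fun g => by
      refine ⟨ρ g v, ?_⟩
      rw [trP_apply]
      refine Finset.sum_congr rfl fun i _ => ?_
      rw [map_mul, map_mul, Module.End.mul_apply, Module.End.mul_apply, hpowv i]) _
    (Finset.univ.filter (fun g : G => ¬ p ∣ orderOf g ∧ ¬ Commute g x)) rfl (by
      intro g hg
      rw [Finset.mem_filter] at hg ⊢
      refine ⟨Finset.mem_univ _, ?_, ?_⟩
      · have : orderOf (x * g * x⁻¹) = orderOf g := by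
          have := orderOf_injective (MulAut.conj x).toMonoidHom (MulAut.conj x).injective g
          simpa using this
        rw [this]; exact hg.2.1
      · intro h
        apply hg.2.2
        have h5 : x * g * x⁻¹ * x = x * (x * g * x⁻¹) := h.eq
        rw [inv_mul_cancel_right] at h5
        have h6 := mul_left_cancel h5
        rw [eq_mul_inv_iff_mul_eq] at h6
        exact h6) (fun g hg => (Finset.mem_filter.1 hg).2.2)
  have hsplit : Finset.univ.filter (fun g : G => ¬ p ∣ orderOf g) =
      Finset.univ.filter (fun g : G => g ∈ V0) ∪ Finset.univ.filter (fun g : G => ¬ p ∣ orderOf g ∧ ¬ Commute g x) := by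
    ext g
    simp only [Finset.mem_filter, Finset.mem_univ, true_and, Finset.mem_union, hV0]
    tauto
  have hdisj : Disjoint (Finset.univ.filter (fun g : G => g ∈ V0))
      (Finset.univ.filter (fun g : G => ¬ p ∣ orderOf g ∧ ¬ Commute g x)) := by
    rw [Finset.disjoint_left]
    intro g h5 h6
    rw [Finset.mem_filter, hV0] at h5
    exact (Finset.mem_filter.1 h6).2.2 h5.2.1
  have hcV0 : (Finset.univ.filter (fun g : G => g ∈ V0)).card = Nat.card V0 := by
    rw [← Fintype.card_subtype, Nat.card_eq_fintype_card]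
  rw [hsplit, Finset.sum_union hdisj, Finset.card_union_of_disjoint hdisj, hcV0] at h2
  have hc0 : ((Finset.univ.filter (fun g : G => ¬ p ∣ orderOf g ∧ ¬ Commute g x)).card : K) = 0 :=
    (CharP.cast_eq_zero_iff K p _).2 h4
  push_cast at h2
  rw [hc0, add_zero] at h2
  have hne : (Nat.card V0 : K) ≠ 0 := fun h => hV0p ((CharP.cast_eq_zero_iff K p _).1 h)
  set w := ∑ g ∈ Finset.univ.filter (fun g : G => g ∈ V0), ρ g v with hw
  refine ⟨(Nat.card V0 : K)⁻¹ • w, ?_, ?_, ?_⟩
  · rw [map_smul, hw, map_sum]
    congr 1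
    refine Finset.sum_congr rfl fun g hg => ?_
    have h5 : Commute g x := ((hV0 g).1 (Finset.mem_filter.1 hg).2).1
    rw [← Module.End.mul_apply, ← map_mul, ← h5.eq, map_mul, Module.End.mul_apply, hv]
  · intro c hc hcp
    have hcV : c ∈ V0 := (hV0 c).2 ⟨hc, hcp⟩
    rw [map_smul, hw, map_sum]
    congr 1
    refine Finset.sum_nbij' (fun g => c * g) (fun g => c⁻¹ * g) ?_ ?_ ?_ ?_ ?_
    · intro g hg
      simp only [Finset.mem_filter, Finset.mem_univ, true_and] at hg ⊢
      exact V0.mul_mem hcV hg
    · intro g hg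
      simp only [Finset.mem_filter, Finset.mem_univ, true_and] at hg ⊢
      exact V0.mul_mem (V0.inv_mem hcV) hg
    · intro g _; exact inv_mul_cancel_left c g
    · intro g _; exact mul_inv_cancel_left c g
    · intro g _
      rw [map_mul, Module.End.mul_apply]
  · intro h5
    apply hn
    have h6 : w ∈ R := by
      have := R.smul_mem (Nat.card V0 : K) h5
      rwa [smul_smul, mul_inv_cancel₀ hne, one_smul] at this
    have h7 : (Nat.card V0 : K) • v ∈ R := by
      rw [← h2]
      exact R.add_mem h6 h3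
    have := R.smul_mem (Nat.card V0 : K)⁻¹ h7
    rwa [smul_smul, inv_mul_cancel₀ hne, one_smul] at this

end Cfsg.Agent.H666.Frob
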